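import Mathlib
import Cfsg.Agent.Lib.Helper19.KAlt.Defs
import Cfsg.Agent.Lib.Helper75.LW.All

/-!
# KALT (S0747): package [RED1] (the Sylow case, Witt's lemma)
-/

set_option autoImplicit false

namespace Cfsg.Agent.Lib.Helper1.KAlt

open Cfsg.Agent.Lib.Helper75.LW Cfsg.Agent.Lib.Helper19.KAlt

universe u

/-- two `p`-subgroups of `H` of the maximal `p`-subgroup order are conjugate in `H` -/
theorem conj_of_max_card {M : Type u} [Group M] [Finite M] (p : ℕ) [Fact p.Prime]
    (H Q Q' : Subgroup M) (hQ : Q ≤ H) (hQ' : Q' ≤ H) (hpQ : IsPGroup p ↥Q)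
    (hpQ' : IsPGroup p ↥Q') (hcard : Nat.card ↥Q ≤ Nat.card ↥Q')
    (hmax : ∀ R : Subgroup M, R ≤ H → IsPGroup p ↥R → Nat.card ↥R ≤ Nat.card ↥Q) :
    ∃ h ∈ H, ∀ x ∈ Q', h * x * h⁻¹ ∈ Q := by
  have key : ∀ (R : Subgroup M), R ≤ H → IsPGroup p ↥R → Nat.card ↥Q ≤ Nat.card ↥R →
      ∀ S : Sylow p ↥H, R.subgroupOf H ≤ (S : Subgroup ↥H) →
      R.subgroupOf H = (S : Subgroup ↥H) := by
    intro R hR hpR hc S hS
    apply Subgroup.eq_of_le_of_card_ge hS
    have h1 : Nat.card ↥((S : Subgroup ↥H).map H.subtype) ≤ Nat.card ↥Q :=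
      hmax _ (Subgroup.map_subtype_le _) (S.isPGroup'.map _)
    have h2 : Nat.card ↥((S : Subgroup ↥H).map H.subtype) = Nat.card ↥(S : Subgroup ↥H) :=
      Subgroup.card_map_of_injective H.subtype_injective
    have h3 : Nat.card ↥(R.subgroupOf H) = Nat.card ↥R :=
      Nat.card_congr (Subgroup.subgroupOfEquivOfLe hR).toEquiv
    omega
  obtain ⟨P, hP⟩ := (hpQ.comap_subtype (K := H)).exists_le_sylow
  obtain ⟨P', hP'⟩ := (hpQ'.comap_subtype (K := H)).exists_le_sylow
  have e1 := key Q hQ hpQ le_rfl P hP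
  have e2 := key Q' hQ' hpQ' hcard P' hP'
  obtain ⟨h, hh⟩ := MulAction.exists_smul_eq ↥H P' P
  refine ⟨h, h.2, fun x hx => ?_⟩
  have hx' : (⟨x, hQ' hx⟩ : ↥H) ∈ (P' : Subgroup ↥H) := by
    rw [← e2]
    exact Subgroup.mem_subgroupOf.mpr hx
  have h4 : h * ⟨x, hQ' hx⟩ * h⁻¹ ∈ (P : Subgroup ↥H) := by
    rw [← hh, Sylow.coe_subgroup_smul]
    exact Subgroup.smul_mem_pointwise_smul _ (MulAut.conj h) _ hx'
  rw [← e1] at h4
  exact Subgroup.mem_subgroupOf.mp h4

theorem pkgRed1 : PkgRed1.{u} := by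
  intro α _ _ G k p Q F hM hHT hmaxL A hAF hAk u v huF hvF huA hvA
  classical
  by_cases huv : u = v
  · exact ⟨1, G.one_mem, fun a => Iff.rfl, fun a _ => rfl, huv⟩
  have hfact : Fact p.Prime := ⟨hM.prime⟩
  -- the element moving `u` to `v` and fixing `A`
  have hΛ : (insert u A).card = k := by
    rw [Finset.card_insert_of_notMem huA]
    exact hAk
  have hinj : Set.InjOn (fun a => if a = u then v else a) ((insert u A : Finset α) : Set α) := by
    intro a ha b hb hab
    simp only [Finset.coe_insert, Set.mem_insert_iff, Finset.mem_coe] at ha hb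
    by_cases hau : a = u
    · by_cases hbu : b = u
      · rw [hau, hbu]
      · exfalso
        simp only [hau, hbu, if_true, if_false] at hab
        rcases hb with hb | hb
        · exact hbu hb
        · exact hvA (hab ▸ hb)
    · by_cases hbu : b = u
      · exfalso
        simp only [hau, hbu, if_true, if_false] at hab
        rcases ha with ha | ha
        · exact hau ha
        · exact hvA (hab ▸ ha)
      · simpa only [hau, hbu, if_false] using hab
  obtain ⟨g, hgG, hg⟩ := allExt G k (insert u A) _ hΛ hHT hinj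
  have hgu : g u = v := by
    have := hg u (Finset.mem_insert_self u A)
    simpa using this
  have hgA : ∀ a ∈ A, g a = a := by
    intro a ha
    have h1 := hg a (Finset.mem_insert_of_mem ha)
    have hau : a ≠ u := fun h => huA (h ▸ ha)
    simpa [hau] using h1
  have hgAinv : ∀ a ∈ A, g⁻¹ a = a := by
    intro a ha
    rw [Equiv.Perm.inv_eq_iff_eq]
    exact (hgA a ha).symm
  have hguinv : g⁻¹ v = u := by
    rw [Equiv.Perm.inv_eq_iff_eq]
    exact hgu.symm
  have hQfix : ∀ a ∈ F, ∀ q ∈ Q, q a = a := fun a ha => (hM.fix a).mp ha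
  -- the `k`-set `L`
  have hL : (insert v A).card = k := by
    rw [Finset.card_insert_of_notMem hvA]
    exact hAk
  have hQL : Q ≤ PS G (insert v A) := by
    intro q hq
    refine ⟨hM.le hq, fun a ha => ?_⟩
    rcases Finset.mem_insert.mp ha with rfl | ha
    · exact hQfix _ hvF q hq
    · exact hQfix a (hAF ha) q hq
  have hQ'L : Q.map (MulAut.conj g).toMonoidHom ≤ PS G (insert v A) := by
    rintro _ ⟨q, hq, rfl⟩
    have hq' : q ∈ Q := hq
    refine ⟨?_, fun a ha => ?_⟩
    · simp only [MulEquiv.toMonoidHom_eq_coe, MonoidHom.coe_coe, MulAut.conj_apply]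
      exact G.mul_mem (G.mul_mem hgG (hM.le hq')) (G.inv_mem hgG)
    · simp only [MulEquiv.toMonoidHom_eq_coe, MonoidHom.coe_coe, MulAut.conj_apply,
        Equiv.Perm.mul_apply]
      rcases Finset.mem_insert.mp ha with rfl | ha
      · rw [hguinv, hQfix u huF q hq', hgu]
      · rw [hgAinv a ha, hQfix a (hAF ha) q hq', hgA a ha]
  have hcardQ' : Nat.card ↥(Q.map (MulAut.conj g).toMonoidHom) = Nat.card ↥Q :=
    Subgroup.card_map_of_injective (MulAut.conj g).injective
  obtain ⟨h, hh, hconj⟩ := conj_of_max_card p (PS G (insert v A)) Q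
    (Q.map (MulAut.conj g).toMonoidHom) hQL hQ'L hM.pgrp (hM.pgrp.map _) hcardQ'.ge
    (fun R hR hpR => hmaxL (insert v A) hL R hR hpR)
  -- `n = h * g` normalises `Q`
  have hn1 : ∀ q ∈ Q, (h * g) * q * (h * g)⁻¹ ∈ Q := by
    intro q hq
    have h1 := hconj (g * q * g⁻¹) ⟨q, hq, by simp⟩
    have e : h * g * q * (h * g)⁻¹ = h * (g * q * g⁻¹) * h⁻¹ := by group
    rw [e]
    exact h1
  have hmapeq : Q.map (MulAut.conj (h * g)).toMonoidHom = Q := by
    apply Subgroup.eq_of_le_of_card_ge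
    · rintro _ ⟨q, hq, rfl⟩
      have h1 := hn1 q hq
      simp only [MulEquiv.toMonoidHom_eq_coe, MonoidHom.coe_coe, MulAut.conj_apply]
      exact h1
    · exact (Subgroup.card_map_of_injective (MulAut.conj (h * g)).injective).ge
  have hn2 : ∀ q ∈ Q, (h * g)⁻¹ * q * (h * g) ∈ Q := by
    intro q hq
    rw [← hmapeq] at hq
    obtain ⟨q0, hq0, rfl⟩ := hq
    have e : (h * g)⁻¹ * ((MulAut.conj (h * g)).toMonoidHom q0) * (h * g) = q0 := by
      simp only [MulEquiv.toMonoidHom_eq_coe, MonoidHom.coe_coe, MulAut.conj_apply]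
      group
    rw [e]
    exact hq0
  have hhA : ∀ a ∈ insert v A, h a = a := hh.2
  refine ⟨h * g, G.mul_mem hh.1 hgG, fun a => ?_, fun a ha => ?_, ?_⟩
  · rw [hM.fix, hM.fix]
    constructor
    · intro hfa q hq
      have h1 := hfa _ (hn1 q hq)
      have h2 : (h * g) (q a) = (h * g) a := by
        have e : (h * g * q * (h * g)⁻¹) ((h * g) a) = (h * g) (q a) := by
          have e0 : (h * g)⁻¹ ((h * g) a) = a := by
            rw [Equiv.Perm.inv_eq_iff_eq]
          rw [Equiv.Perm.mul_apply (h * g * q), e0, Equiv.Perm.mul_apply (h * g) q]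
        rw [← e]
        exact h1
      exact (h * g).injective h2
    · intro hfa q hq
      have h1 := hfa _ (hn2 q hq)
      have h2 : (h * g)⁻¹ (q ((h * g) a)) = a := by
        have e : ((h * g)⁻¹ * q * (h * g)) a = (h * g)⁻¹ (q ((h * g) a)) := by
          rw [Equiv.Perm.mul_apply, Equiv.Perm.mul_apply]
        rw [← e]
        exact h1
      rw [Equiv.Perm.inv_eq_iff_eq] at h2
      exact h2
  · rw [Equiv.Perm.mul_apply, hgA a ha]
    exact hhA a (Finset.mem_insert_of_mem ha)
  · rw [Equiv.Perm.mul_apply, hgu]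
    exact hhA v (Finset.mem_insert_self v A)

end Cfsg.Agent.Lib.Helper1.KAlt
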